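import Cfsg.Agent.Lib.Base.FrobeniusSolutions

/-!
Numbers of elements of given orders, for the recognition of `PGL(2, q)` by its order and these numbers.
-/

set_option autoImplicit false

namespace CfsgLib.NsePgl

/-- The number of elements of order `k`. -/
noncomputable abbrev ordCount (G : Type*) [Group G] (k : ℕ) : ℕ :=
  Nat.card {g : G // orderOf g = k}

variable {G : Type*} [Group G] [Finite G]

theorem ordCount_eq_zero {k : ℕ} (h : ∀ g : G, orderOf g ≠ k) : ordCount G k = 0 :=
  Nat.card_eq_zero.2 (Or.inl ⟨fun g => h g.1 g.2⟩)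

theorem ordCount_zero : ordCount G 0 = 0 :=
  ordCount_eq_zero fun g => (orderOf_pos g).ne'

theorem ordCount_one : ordCount G 1 = 1 := by
  show Nat.card {g : G // orderOf g = 1} = 1
  rw [Nat.card_congr (Equiv.subtypeEquivRight fun g : G => orderOf_eq_one_iff)]
  exact Nat.card_unique

theorem sum_ordCount {n : ℕ} (hn : n ≠ 0) :
    ∑ k ∈ n.divisors, ordCount G k = Nat.card {g : G // g ^ n = 1} := by
  classical
  have := Fintype.ofFinite G
  simp only [Nat.card_eq_fintype_card, Fintype.card_subtype]
  exact sum_card_orderOf_eq_card_pow_eq_one hn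

/-- The number of elements of an order above two is even. -/
theorem even_ordCount {k : ℕ} (hk : 3 ≤ k) : Even (ordCount G k) := by
  classical
  have := Fintype.ofFinite G
  have : Fact (Nat.Prime 2) := ⟨Nat.prime_two⟩
  rw [even_iff_two_dvd]
  by_contra h
  let σ : Equiv.Perm {g : G // orderOf g = k} :=
    (Equiv.inv G).subtypeEquiv fun g => by simp [orderOf_inv]
  have hσ : σ ^ 2 ^ 1 = 1 := by
    ext x
    simp [σ, sq, Equiv.Perm.mul_apply]
  obtain ⟨⟨g, hg⟩, hfix⟩ := Equiv.Perm.exists_fixed_point_of_prime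
    (by rwa [← Nat.card_eq_fintype_card]) hσ
  have e : g⁻¹ = g := congrArg Subtype.val hfix
  have : orderOf g ∣ 2 := orderOf_dvd_of_pow_eq_one (by
    rw [sq]; exact mul_eq_one_iff_eq_inv.2 e.symm)
  have := Nat.le_of_dvd (by omega) this
  omega

theorem odd_ordCount_two (h : 2 ∣ Nat.card G) : Odd (ordCount G 2) := by
  have h1 := CfsgLib.Base.Solutions.dvd_card_pow_eq_one h
  rw [← sum_ordCount (n := 2) (by norm_num), Nat.Prime.divisors Nat.prime_two,
    Finset.sum_pair (by norm_num), ordCount_one] at h1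
  rw [Nat.odd_iff]
  omega

end CfsgLib.NsePgl
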