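import Cfsg.Agent.Lib.NsePgl.Basic
import Cfsg.Agent.Lib.Recog.ProjSpectrum
import Cfsg.Agent.Lib.Classical.Order

/-!
The numbers of elements of given order in `PGL(2, q)`, `q` odd.
-/

set_option autoImplicit false

namespace CfsgLib.NsePgl

open Matrix CfsgLib.Recog

variable {F : Type*} [Field F]

/-- The trace zero matrix with the given entries. -/
def mat (v : F × F × F) : Matrix (Fin 2) (Fin 2) F := !![v.1, v.2.1; v.2.2, -v.1]

/-- Minus the determinant of `mat v`. -/
def quad (v : F × F × F) : F := v.1 * v.1 + v.2.1 * v.2.2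

theorem mat_mul_self (v : F × F × F) : mat v * mat v = quad v • (1 : Matrix (Fin 2) (Fin 2) F) := by
  ext i j
  fin_cases i <;> fin_cases j <;> simp [mat, quad, Matrix.mul_apply, Fin.sum_univ_two] <;> ring

theorem det_mat (v : F × F × F) : (mat v).det = -quad v := by
  simp [mat, quad, Matrix.det_fin_two]; ring

theorem trace_mat (v : F × F × F) : (mat v).trace = 0 := by
  simp [mat, Matrix.trace_fin_two]

theorem mat_injective : Function.Injective (mat (F := F)) := fun v w h => by
  have h00 := congrFun (congrFun h 0) 0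
  have h01 := congrFun (congrFun h 0) 1
  have h10 := congrFun (congrFun h 1) 0
  simp [mat] at h00 h01 h10
  exact Prod.ext h00 (Prod.ext h01 h10)

theorem exists_mat {M : Matrix (Fin 2) (Fin 2) F} (h : M.trace = 0) : ∃ v, mat v = M := by
  refine ⟨(M 0 0, M 0 1, M 1 0), ?_⟩
  rw [Matrix.trace_fin_two] at h
  ext i j
  fin_cases i <;> fin_cases j <;> simp [mat]
  linear_combination -h

theorem card_quad_zero [Finite F] :
    Nat.card {v : F × F × F // quad v = 0} = Nat.card F ^ 2 := by
  classical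
  let f : {v : F × F × F // quad v = 0} → F × F := fun v =>
    if v.1.2.1 = 0 then (v.1.2.2, 0) else (v.1.1, v.1.2.1)
  have hf : Function.Bijective f := by
    constructor
    · rintro ⟨⟨a, b, c⟩, h⟩ ⟨⟨a', b', c'⟩, h'⟩ he
      simp only [quad] at h h'
      simp only [f] at he
      split_ifs at he with h1 h2 h2
      · rw [h1, zero_mul, add_zero, mul_self_eq_zero] at h
        rw [h2, zero_mul, add_zero, mul_self_eq_zero] at h'
        simp only [Prod.mk.injEq, and_true] at he
        simp [h, h', h1, h2, he]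
      · exact absurd (congrArg Prod.snd he).symm h2
      · exact absurd (congrArg Prod.snd he) h1
      · simp only [Prod.mk.injEq] at he
        obtain ⟨rfl, rfl⟩ := he
        have : c = c' := mul_left_cancel₀ h1 (by linear_combination h - h')
        subst this; rfl
    · rintro ⟨x, y⟩
      by_cases hy : y = 0
      · exact ⟨⟨(0, 0, x), by simp [quad]⟩, by simp [f, hy]⟩
      · exact ⟨⟨(x, y, -(x * x) / y), by simp [quad]; field_simp; ring⟩, by simp [f, hy]⟩
  rw [Nat.card_eq_of_bijective f hf, Nat.card_prod, sq]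

theorem card_quad_ne_zero [Finite F] :
    Nat.card {v : F × F × F // quad v ≠ 0} = Nat.card F ^ 2 * (Nat.card F - 1) := by
  classical
  have h := Nat.card_congr (Equiv.sumCompl fun v : F × F × F => quad v = 0)
  rw [Nat.card_sum, card_quad_zero, Nat.card_prod, Nat.card_prod] at h
  rw [Nat.mul_sub, mul_one, show Nat.card F ^ 2 * Nat.card F = Nat.card F * (Nat.card F * Nat.card F) by ring,
    ← h, Nat.add_sub_cancel_left]

local notation "P₂" => (GL (Fin 2) F ⧸ Subgroup.center (GL (Fin 2) F))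
local notation "mk₂" => (QuotientGroup.mk' (Subgroup.center (GL (Fin 2) F)))
local notation "M₂" => Matrix (Fin 2) (Fin 2) F

theorem mk_eq_one_iff (g : GL (Fin 2) F) : mk₂ g = 1 ↔ ∃ c : F, (g : M₂) = c • 1 := by
  rw [← mem_center_GL_two_iff]
  exact QuotientGroup.eq_one_iff g

theorem smul_of_mk_eq {g h : GL (Fin 2) F} (e : mk₂ g = mk₂ h) : ∃ c : F, (h : M₂) = c • (g : M₂) := by
  obtain ⟨c, hc⟩ := (mk_eq_one_iff (g⁻¹ * h)).1 (by rw [map_mul, map_inv, e, inv_mul_cancel])
  refine ⟨c, ?_⟩
  have h1 : (h : M₂) = (g : M₂) * ((g⁻¹ * h : GL (Fin 2) F) : M₂) := by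
    rw [← Units.val_mul, mul_inv_cancel_left]
  rw [h1, hc, mul_smul_comm, mul_one]

theorem mk_eq_of_smul {g h : GL (Fin 2) F} {c : F} (e : (h : M₂) = c • (g : M₂)) : mk₂ g = mk₂ h := by
  rw [← inv_mul_eq_one, ← map_inv, ← map_mul, mk_eq_one_iff]
  exact ⟨c, by rw [Units.val_mul, e, mul_smul_comm, Units.inv_mul]⟩

theorem one_add_mat_mul {v : F × F × F} (hv : quad v = 0) : (1 + mat v) * (1 - mat v) = 1 := by
  rw [mul_sub, mul_one, add_mul, one_mul, mat_mul_self, hv, zero_smul]
  abel

theorem one_sub_mat_mul {v : F × F × F} (hv : quad v = 0) : (1 - mat v) * (1 + mat v) = 1 := by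
  rw [mul_add, mul_one, sub_mul, one_mul, mat_mul_self, hv, zero_smul]
  abel

/-- The unipotent element `1 + mat v`. -/
def unip (v : {v : F × F × F // quad v = 0}) : GL (Fin 2) F :=
  ⟨1 + mat v.1, 1 - mat v.1, one_add_mat_mul v.2, one_sub_mat_mul v.2⟩

theorem unip_mk_injective (h2 : (2 : F) ≠ 0) :
    Function.Injective fun v : {v : F × F × F // quad v = 0} => mk₂ (unip v) := fun v w h => by
  obtain ⟨c, hc⟩ := smul_of_mk_eq h
  change (1 + mat w.1 : M₂) = c • (1 + mat v.1) at hc
  have ht := congrArg Matrix.trace hc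
  simp only [Matrix.trace_add, Matrix.trace_smul, Matrix.trace_one, trace_mat, add_zero,
    Fintype.card_fin, Nat.cast_ofNat, smul_eq_mul] at ht
  have hc1 : c = 1 := (mul_right_cancel₀ h2 (by rw [one_mul]; exact ht)).symm
  rw [hc1, one_smul] at hc
  exact Subtype.ext (mat_injective (add_left_cancel hc)).symm

variable [Fintype F] (p : ℕ) [hp : Fact p.Prime] [CharP F p]

include hp in
theorem unip_pow (v : {v : F × F × F // quad v = 0}) : mk₂ (unip v) ^ p = 1 := by
  rw [← map_pow, mk_eq_one_iff]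
  refine ⟨1, ?_⟩
  rw [Units.val_pow_eq_pow_val]
  show (1 + mat v.1 : M₂) ^ p = _
  rw [add_pow_char_of_commute (p := p) (Commute.one_left _), one_pow,
    pow_eq_zero_of_le hp.out.two_le (show mat v.1 ^ 2 = (0 : M₂) by rw [sq, mat_mul_self, v.2, zero_smul]),
    add_zero, one_smul]

include hp in
theorem exists_unip_of_pow {x : P₂} (hx : x ^ p = 1) (h2 : (2 : F) ≠ 0) :
    ∃ v : {v : F × F × F // quad v = 0}, mk₂ (unip v) = x := by
  obtain ⟨g, rfl⟩ := QuotientGroup.mk'_surjective _ x
  rw [← map_pow, mk_eq_one_iff, Units.val_pow_eq_pow_val] at hx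
  obtain ⟨c, hc⟩ := hx
  obtain ⟨e, he⟩ : ∃ e : F, e ^ p = c :=
    Finite.surjective_of_injective (frobenius_inj F p) c
  subst he
  set N : M₂ := (g : M₂) - e • 1 with hN
  have hNp : N ^ p = 0 := by
    rw [hN, sub_pow_char_of_commute (p := p) ((Commute.one_right _).smul_right e), smul_pow, one_pow, hc,
      sub_self]
  have hdet : N.det = 0 := by
    have h := congrArg Matrix.det hNp
    rw [Matrix.det_pow, Matrix.det_zero] at h
    exact eq_zero_of_pow_eq_zero h
  have hsq : N ^ 2 = N.trace • N := by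
    have := sq_sub_trace_mul_add_det N
    rw [hdet, zero_smul, add_zero, sub_eq_zero] at this
    exact this
  have htr : N.trace = 0 := by
    by_contra ht
    have hk : ∀ k : ℕ, N ^ (k + 1) = N.trace ^ k • N := by
      intro k
      induction k with
      | zero => simp
      | succ k ih => rw [pow_succ, ih, smul_mul_assoc, ← sq, hsq, smul_smul, ← pow_succ]
    have h := hk (p - 1)
    rw [Nat.sub_add_cancel hp.out.one_le, hNp] at h
    have hN0 : N = 0 := (smul_eq_zero.1 h.symm).resolve_left (pow_ne_zero _ ht)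
    exact ht (by rw [hN0, Matrix.trace_zero])
  have he0 : e ≠ 0 := by
    rintro rfl
    rw [zero_smul, sub_zero] at hN
    rw [hN] at hdet
    exact ((Matrix.isUnit_iff_isUnit_det _).1 g.isUnit).ne_zero hdet
  obtain ⟨v, hv⟩ := exists_mat (M := e⁻¹ • N) (by rw [Matrix.trace_smul, htr, smul_zero])
  have hq : quad v = 0 := by
    have h := det_mat v
    rw [hv, Matrix.det_smul, hdet, mul_zero] at h
    exact neg_eq_zero.1 h.symm
  refine ⟨⟨v, hq⟩, mk_eq_of_smul (c := e) ?_⟩
  show (g : M₂) = e • (1 + mat v)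
  rw [hv, smul_add, smul_smul, mul_inv_cancel₀ he0, one_smul, hN]
  abel

include hp in
theorem ordCount_p (h2 : (2 : F) ≠ 0) : ordCount P₂ p = Fintype.card F ^ 2 - 1 := by
  classical
  let z : {v : F × F × F // quad v = 0} := ⟨0, by simp [quad]⟩
  have hz : mk₂ (unip z) = 1 := by
    rw [mk_eq_one_iff]
    exact ⟨1, by show (1 + mat 0 : M₂) = _; ext i j; fin_cases i <;> fin_cases j <;> simp [mat]⟩
  let f : {v : {v : F × F × F // quad v = 0} // v ≠ z} → {x : P₂ // orderOf x = p} := fun v =>
    ⟨mk₂ (unip v.1), orderOf_eq_prime (unip_pow p v.1)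
      fun h => v.2 (unip_mk_injective h2 (h.trans hz.symm))⟩
  have hf : Function.Bijective f := by
    refine ⟨fun v w h => Subtype.ext (unip_mk_injective h2 (congrArg Subtype.val h)), fun x => ?_⟩
    obtain ⟨v, hv⟩ := exists_unip_of_pow p (x := x.1)
      (orderOf_dvd_iff_pow_eq_one.1 (dvd_of_eq x.2)) h2
    refine ⟨⟨v, fun h => ?_⟩, Subtype.ext hv⟩
    have := x.2
    rw [← hv, h, hz, orderOf_one] at this
    exact hp.out.ne_one this.symm
  show Nat.card {x : P₂ // orderOf x = p} = _
  rw [← Nat.card_eq_of_bijective f hf, Nat.card_eq_fintype_card, Fintype.card_subtype_compl,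
    Fintype.card_subtype_eq, ← Nat.card_eq_fintype_card, card_quad_zero, Nat.card_eq_fintype_card]

omit hp in
theorem ordCount_two (h2 : (2 : F) ≠ 0) : ordCount P₂ 2 = Fintype.card F ^ 2 := by
  classical
  have key : ∀ g : GL (Fin 2) F, orderOf (mk₂ g) = 2 ↔ (g : M₂).trace = 0 := by
    intro g
    have hd : (g : M₂).det ≠ 0 := ((Matrix.isUnit_iff_isUnit_det _).1 g.isUnit).ne_zero
    have hch := sq_sub_trace_mul_add_det (g : M₂)
    constructor
    · intro h
      by_contra ht
      have h1 : mk₂ g ≠ 1 := fun e => by simp [e] at h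
      have hsq : mk₂ g ^ 2 = 1 := orderOf_dvd_iff_pow_eq_one.1 (dvd_of_eq h)
      rw [← map_pow, mk_eq_one_iff, Units.val_pow_eq_pow_val] at hsq
      obtain ⟨c, hc⟩ := hsq
      refine h1 ((mk_eq_one_iff g).2 ⟨(g : M₂).trace⁻¹ * (c + (g : M₂).det), ?_⟩)
      rw [hc] at hch
      rw [← smul_smul, add_smul, show c • (1 : M₂) + (g : M₂).det • 1 = (g : M₂).trace • (g : M₂) by
        linear_combination (norm := abel) hch, smul_smul, inv_mul_cancel₀ ht, one_smul]
    · intro ht
      rw [ht, zero_smul, sub_zero] at hch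
      refine orderOf_eq_prime ?_ fun e => ?_
      · rw [← map_pow, mk_eq_one_iff, Units.val_pow_eq_pow_val]
        exact ⟨-(g : M₂).det, by rw [neg_smul]; exact eq_neg_of_add_eq_zero_left hch⟩
      · obtain ⟨c, hc⟩ := (mk_eq_one_iff g).1 e
        rw [hc, Matrix.trace_smul, Matrix.trace_one, Fintype.card_fin, Nat.cast_ofNat, smul_eq_mul,
          mul_eq_zero] at ht
        rw [hc, ht.resolve_right h2, zero_smul, Matrix.det_zero] at hd
        exact hd rfl
  have hT : ∀ v : {v : F × F × F // quad v ≠ 0}, (mat v.1).det ≠ 0 := fun v => by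
    rw [det_mat]; exact neg_ne_zero.2 v.2
  let T : {v : F × F × F // quad v ≠ 0} → {g : GL (Fin 2) F // (g : M₂).trace = 0} := fun v =>
    ⟨Matrix.GeneralLinearGroup.mkOfDetNeZero (mat v.1) (hT v), trace_mat v.1⟩
  let e1 : {g : GL (Fin 2) F // (g : M₂).trace = 0} ≃ {v : F × F × F // quad v ≠ 0} :=
    (Equiv.ofBijective T ⟨fun v w h => Subtype.ext (mat_injective (congrArg (fun g => ((g.1 : GL (Fin 2) F) : M₂)) h)),
       fun g => by
        obtain ⟨v, hv⟩ := exists_mat g.2
        have hq : quad v ≠ 0 := fun h => by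
          have := det_mat v
          rw [h, hv, neg_zero] at this
          exact ((Matrix.isUnit_iff_isUnit_det _).1 g.1.isUnit).ne_zero this
        exact ⟨⟨v, hq⟩, Subtype.ext (Units.ext hv)⟩⟩).symm
  have e2 := QuotientGroup.preimageMkEquivSubgroupProdSet (Subgroup.center (GL (Fin 2) F))
    {x : P₂ | orderOf x = 2}
  have h := Nat.card_congr e2
  rw [Nat.card_prod, CfsgLib.Classical.card_center_GL, CfsgLib.Classical.card_units_field] at h
  have h' : Nat.card (QuotientGroup.mk ⁻¹' {x : P₂ | orderOf x = 2} : Set (GL (Fin 2) F)) =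
      Nat.card F ^ 2 * (Nat.card F - 1) := by
    rw [← card_quad_ne_zero, ← Nat.card_congr e1]
    exact Nat.card_congr (Equiv.subtypeEquivRight fun g => key g)
  rw [h'] at h
  have h1 : 1 < Nat.card F := Finite.one_lt_card
  show Nat.card {x : P₂ | orderOf x = 2} = _
  rw [← Nat.card_eq_fintype_card]
  exact (Nat.eq_of_mul_eq_mul_left (show 0 < Nat.card F - 1 by omega)
    (by rw [mul_comm, h])).symm

include hp in
/-- Elements commuting with an element of order `p` are killed by `p`. -/
theorem pow_p_of_commute_PGL (h2 : (2 : F) ≠ 0) {x y : P₂} (hx : orderOf x = p) (hc : Commute x y) :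
    y ^ p = 1 := by
  obtain ⟨v, rfl⟩ := exists_unip_of_pow p (x := x) (orderOf_dvd_iff_pow_eq_one.1 (dvd_of_eq hx)) h2
  obtain ⟨g, rfl⟩ := QuotientGroup.mk'_surjective _ y
  obtain ⟨c, hcg⟩ := smul_of_mk_eq (g := g * unip v) (h := unip v * g) (by
    rw [map_mul, map_mul, hc.eq])
  change (1 + mat v.1) * (g : M₂) = c • ((g : M₂) * (1 + mat v.1)) at hcg
  have hc1 : c = 1 := by
    have h : (1 + mat v.1) = c • ((g : M₂) * (1 + mat v.1) * ((g⁻¹ : GL (Fin 2) F) : M₂)) := by
      rw [← smul_mul_assoc, ← hcg, mul_assoc, Units.mul_inv, mul_one]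
    have ht := congrArg Matrix.trace h
    rw [Matrix.trace_smul, Matrix.trace_mul_cycle, Units.inv_mul, one_mul, Matrix.trace_add,
      Matrix.trace_one, trace_mat, add_zero, Fintype.card_fin, Nat.cast_ofNat, smul_eq_mul] at ht
    exact (mul_right_cancel₀ h2 (by rw [one_mul]; exact ht)).symm
  rw [hc1, one_smul, add_mul, mul_add, one_mul, mul_one] at hcg
  have hcomm : mat v.1 * (g : M₂) = (g : M₂) * mat v.1 := add_left_cancel hcg
  have hN : mat v.1 ≠ 0 := by
    intro h0
    have : mk₂ (unip v) = 1 := (mk_eq_one_iff _).2 ⟨1, by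
      show (1 + mat v.1 : M₂) = _; rw [h0, add_zero, one_smul]⟩
    rw [this, orderOf_one] at hx
    exact hp.out.ne_one hx.symm
  set s : F := (g : M₂).trace / 2 with hs
  obtain ⟨w, hw⟩ := exists_mat (M := (g : M₂) - s • 1) (by
    rw [Matrix.trace_sub, Matrix.trace_smul, Matrix.trace_one, Fintype.card_fin, Nat.cast_ofNat,
      smul_eq_mul, hs, div_mul_cancel₀ _ h2, sub_self])
  have hcw : mat v.1 * mat w = mat w * mat v.1 := by
    rw [hw, mul_sub, sub_mul, mul_smul_comm, smul_mul_assoc, mul_one, one_mul, hcomm]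
  have hw0 : quad w = 0 := by
    by_contra hq
    set t : F := 2 * (v.1.1 * w.1) + v.1.2.1 * w.2.2 + v.1.2.2 * w.2.1 with ht
    have hsum : mat v.1 * mat w + mat w * mat v.1 = t • (1 : M₂) := by
      ext i j
      fin_cases i <;> fin_cases j <;> simp [mat, t, Matrix.mul_apply, Fin.sum_univ_two] <;> ring
    rw [← hcw, ← two_smul F] at hsum
    have ht0 : t = 0 := by
      have h := congrArg (fun M => mat v.1 * M) hsum
      simp only [mul_smul_comm, ← mul_assoc, mat_mul_self, v.2, zero_smul, zero_mul, smul_zero,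
        mul_one] at h
      exact (smul_eq_zero.1 h.symm).resolve_right hN
    rw [ht0, zero_smul, smul_eq_zero] at hsum
    have hmn := hsum.resolve_left h2
    have h := congrArg (fun M => M * mat w) hmn
    simp only [mul_assoc, mat_mul_self, zero_mul, mul_smul_comm, mul_one] at h
    exact hN ((smul_eq_zero.1 h).resolve_left hq)
  have hs0 : s ≠ 0 := by
    intro h0
    rw [h0, zero_smul, sub_zero] at hw
    have h := det_mat w
    rw [hw, hw0, neg_zero] at h
    exact ((Matrix.isUnit_iff_isUnit_det _).1 g.isUnit).ne_zero h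
  obtain ⟨u, hu⟩ := exists_mat (M := s⁻¹ • mat w) (by rw [Matrix.trace_smul, trace_mat, smul_zero])
  have hu0 : quad u = 0 := by
    have h := det_mat u
    rw [hu, Matrix.det_smul, det_mat, hw0, neg_zero, mul_zero] at h
    exact neg_eq_zero.1 h.symm
  have : mk₂ (unip ⟨u, hu0⟩) = mk₂ g := mk_eq_of_smul (c := s) (by
    show (g : M₂) = s • (1 + mat u)
    rw [hu, smul_add, smul_smul, mul_inv_cancel₀ hs0, one_smul, hw]
    abel)
  rw [← this]
  exact unip_pow p _

include hp in
/-- The number of elements of each order above two is `q² - 1` or divisible by `q`. -/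
theorem ordCount_big (h2 : (2 : F) ≠ 0) (k : ℕ) :
    (p ∣ k → k = p ∨ ordCount P₂ k = 0) ∧ (¬ p ∣ k → k ≠ 1 → Fintype.card F ∣ ordCount P₂ k) := by
  classical
  have hsing : ∀ g : P₂, p ∣ orderOf g → orderOf g = p := by
    intro g hg
    obtain ⟨j, hj⟩ := hg
    have hj0 : j ≠ 0 := fun h => (orderOf_pos g).ne' (by rw [hj, h, mul_zero])
    have hu : orderOf (g ^ j) = p := by
      rw [orderOf_pow' _ hj0, hj, Nat.gcd_eq_right (dvd_mul_left j p),
        Nat.mul_div_cancel _ (Nat.pos_of_ne_zero hj0)]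
    have h1 : orderOf g ∣ p :=
      orderOf_dvd_of_pow_eq_one (pow_p_of_commute_PGL p h2 hu (Commute.pow_self g j))
    exact Nat.dvd_antisymm h1 (hj ▸ dvd_mul_right p j)
  refine ⟨fun hk => ?_, fun hk hk1 => ?_⟩
  · by_cases hkp : k = p
    · exact Or.inl hkp
    · exact Or.inr (ordCount_eq_zero fun g hg => hkp (hg ▸ hsing g (hg.symm ▸ hk)))
  obtain ⟨n, -, hn⟩ := FiniteField.card F p
  obtain ⟨U⟩ := (inferInstance : Nonempty (Sylow p P₂))
  have hq1 : 1 < Fintype.card F := Fintype.one_lt_card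
  have hU : Nat.card U = Fintype.card F := by
    have hndvd : ¬ p ∣ Fintype.card F ^ 2 - 1 := fun h => by
      have h' : p ∣ Fintype.card F ^ 2 := dvd_pow (hn ▸ dvd_pow_self p n.pos.ne') two_ne_zero
      have := Nat.dvd_sub h' h
      rw [Nat.sub_sub_self (Nat.one_le_pow _ _ (by omega))] at this
      exact hp.out.ne_one (Nat.dvd_one.1 this)
    have hc : Nat.card P₂ = Fintype.card F * (Fintype.card F ^ 2 - 1) := by
      show Nat.card (Matrix.ProjGenLinGroup (Fin 2) F) = _
      rw [CfsgLib.Classical.card_PGL_eq_card_SL, CfsgLib.Classical.card_SL_two,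
        Nat.card_eq_fintype_card]
    rw [U.card_eq_multiplicity, hc, Nat.factorization_mul (by omega)
      (fun h => hndvd (by rw [h]; exact dvd_zero p)), Finsupp.add_apply,
      Nat.factorization_eq_zero_of_not_dvd hndvd, hn, hp.out.factorization_pow]
    simp
  let X := {x : P₂ // orderOf x = k}
  letI : MulAction U X :=
    { smul := fun u x => ⟨(u : P₂) * x.1 * (u : P₂)⁻¹, by
        rw [← MulAut.conj_apply, MulEquiv.orderOf_eq]; exact x.2⟩
      one_smul := fun x => Subtype.ext (by show (1 : P₂) * x.1 * (1 : P₂)⁻¹ = x.1; group)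
      mul_smul := fun a b x => Subtype.ext (by
        show ((a : P₂) * b) * x.1 * ((a : P₂) * b)⁻¹ = (a : P₂) * ((b : P₂) * x.1 * (b : P₂)⁻¹) * (a : P₂)⁻¹
        group) }
  have hfree : ∀ x : X, MulAction.stabilizer U x = ⊥ := fun x => by
    rw [Subgroup.eq_bot_iff_forall]
    intro u hu
    by_contra hu1
    have e : (u : P₂) * x.1 * (u : P₂)⁻¹ = x.1 :=
      congrArg Subtype.val (MulAction.mem_stabilizer_iff.1 hu)
    have hup : p ∣ orderOf (u : P₂) := by
      obtain ⟨j, hj⟩ := IsPGroup.iff_orderOf.1 U.isPGroup' u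
      rw [Subgroup.orderOf_coe, hj]
      rcases j with _ | j
      · rw [pow_zero, orderOf_eq_one_iff] at hj
        exact absurd hj hu1
      · exact dvd_pow_self p (Nat.succ_ne_zero j)
    have hx : x.1 ^ p = 1 :=
      pow_p_of_commute_PGL p h2 (hsing _ hup) (mul_inv_eq_iff_eq_mul.1 e)
    have hd := orderOf_dvd_of_pow_eq_one hx
    rw [x.2] at hd
    rcases (Nat.dvd_prime hp.out).1 hd with h | h
    · exact hk1 h
    · exact hk (h ▸ dvd_rfl)
  show Fintype.card F ∣ Nat.card X
  rw [Nat.card_congr (MulAction.selfEquivOrbitsQuotientProd hfree), Nat.card_prod]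
  exact hU ▸ dvd_mul_left _ _

end CfsgLib.NsePgl
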