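import Cfsg.Agent.Lib.NsePgl.Basic

/-!
A group of order `q (q² - 1)` with `q²` involutions whose other numbers of elements of given order are
`q² - 1` or divisible by `q`: elements of order divisible by `p` have order `p`, their centralisers are
the Sylow `p`-subgroups, and these are abelian.
-/

set_option autoImplicit false

namespace CfsgLib.NsePgl

/-- The hypotheses carried over from `PGL(2, q)` by equality of orders and of the sets of numbers of
elements of the same order. -/
structure Data (G : Type*) [Group G] (p f q : ℕ) : Prop where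
  prime : p.Prime
  p_ne_two : p ≠ 2
  q_eq : q = p ^ f
  q_gt : 3 < q
  card : Nat.card G = q * (q ^ 2 - 1)
  two : ordCount G 2 = q ^ 2
  big : ∀ k, 3 ≤ k → ordCount G k = q ^ 2 - 1 ∨ q ∣ ordCount G k

namespace Data

variable {G : Type*} [Group G] [Finite G] {p f q : ℕ} (D : Data G p f q)
include D

omit [Finite G] in
theorem p_three : 3 ≤ p := by
  have := D.prime.two_le
  have := D.p_ne_two
  omega

omit [Finite G] in
theorem f_pos : 0 < f := by
  rcases Nat.eq_zero_or_pos f with h | h
  · have := D.q_gt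
    rw [D.q_eq, h, pow_zero] at this
    omega
  · exact h

omit [Finite G] in
theorem p_dvd_q : p ∣ q := D.q_eq ▸ dvd_pow_self p D.f_pos.ne'

omit [Finite G] in
theorem one_le_sq : 1 ≤ q ^ 2 := Nat.one_le_pow _ _ (by have := D.q_gt; omega)

omit [Finite G] in
theorem not_p_dvd : ¬ p ∣ q ^ 2 - 1 := fun h => by
  have h2 : p ∣ q ^ 2 := dvd_pow D.p_dvd_q two_ne_zero
  have := Nat.dvd_sub h2 h
  rw [Nat.sub_sub_self D.one_le_sq] at this
  exact D.prime.ne_one (Nat.dvd_one.1 this)

omit [Finite G] in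
theorem coprime : q.Coprime (q ^ 2 - 1) := by
  rw [D.q_eq]
  refine Nat.Coprime.pow_left _ ((Nat.Prime.coprime_iff_not_dvd D.prime).2 ?_)
  have := D.not_p_dvd
  rwa [D.q_eq] at this

omit [Finite G] in
theorem p_dvd_card : p ∣ Nat.card G := D.card ▸ D.p_dvd_q.mul_right _

omit [Finite G] in
theorem zmod_ne : ((q ^ 2 - 1 : ℕ) : ZMod p) = -1 := by
  rw [Nat.cast_sub D.one_le_sq, Nat.cast_pow, (ZMod.natCast_eq_zero_iff q p).2 D.p_dvd_q]
  simp

theorem card_p : ordCount G p = q ^ 2 - 1 := by
  rcases D.big p D.p_three with h | h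
  · exact h
  have h1 := CfsgLib.Base.Solutions.dvd_card_pow_eq_one D.p_dvd_card
  rw [← sum_ordCount D.prime.ne_zero, D.prime.divisors, Finset.sum_pair D.prime.ne_one.symm,
    ordCount_one] at h1
  have h2 : p ∣ 1 := (Nat.dvd_add_left (D.p_dvd_q.trans h)).1 h1
  exact absurd (Nat.dvd_one.1 h2) D.prime.ne_one

theorem card_singular {k : ℕ} (hk : p ∣ k) (hocc : ∃ g : G, orderOf g = k) :
    ordCount G k = q ^ 2 - 1 := by
  classical
  obtain ⟨g, hg⟩ := hocc
  have hN : Nat.card G ≠ 0 := Nat.card_pos.ne'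
  have hsum : ∑ j ∈ (Nat.card G).divisors, ordCount G j = Nat.card G := by
    rw [sum_ordCount hN, Nat.card_congr (Equiv.subtypeUnivEquiv fun g : G => pow_card_eq_one')]
  have hm0 : q ^ 2 - 1 ≠ 0 := by
    have := D.not_p_dvd
    exact fun h => this (h ▸ dvd_zero p)
  have hR : q ^ 2 - 1 ∣ ∑ j ∈ (Nat.card G).divisors.filter (fun j => ¬ p ∣ j), ordCount G j := by
    have h := CfsgLib.Base.Solutions.dvd_card_pow_eq_one (G := G) (m := q ^ 2 - 1)
      (D.card ▸ dvd_mul_left _ _)
    rw [← sum_ordCount hm0] at h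
    rwa [show (Nat.card G).divisors.filter (fun j => ¬ p ∣ j) = (q ^ 2 - 1).divisors from ?_]
    ext j
    simp only [Finset.mem_filter, Nat.mem_divisors, D.card]
    refine ⟨fun ⟨⟨h1, _⟩, h2⟩ => ⟨?_, hm0⟩, fun ⟨h1, _⟩ =>
      ⟨⟨h1.mul_left q, D.card ▸ hN⟩, fun h => D.not_p_dvd (h.trans h1)⟩⟩
    refine Nat.Coprime.dvd_of_dvd_mul_left ?_ h1
    rw [D.q_eq]
    exact Nat.Coprime.pow_right _ ((D.prime.coprime_iff_not_dvd.2 h2).symm)
  have hS : q ^ 2 - 1 ∣ ∑ j ∈ (Nat.card G).divisors.filter (fun j => p ∣ j), ordCount G j := by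
    refine (Nat.dvd_add_left hR).1 ?_
    rw [Finset.sum_filter_add_sum_filter_not, hsum, D.card]
    exact dvd_mul_left _ _
  set T := ((Nat.card G).divisors.filter (fun j => p ∣ j)).filter (fun j => ordCount G j ≠ q ^ 2 - 1)
    with hT
  have hB : q ^ 2 - 1 ∣ ∑ j ∈ T, ordCount G j := by
    rw [← Finset.sum_filter_add_sum_filter_not ((Nat.card G).divisors.filter (fun j => p ∣ j))
      (fun j => ordCount G j ≠ q ^ 2 - 1)] at hS
    refine (Nat.dvd_add_left ?_).1 hS
    exact Finset.dvd_sum fun j hj => by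
      rw [Finset.mem_filter, not_not] at hj
      rw [hj.2]
  have hBq : q ∣ ∑ j ∈ T, ordCount G j := Finset.dvd_sum fun j hj => by
    rw [hT, Finset.mem_filter, Finset.mem_filter, Nat.mem_divisors] at hj
    have hj3 : 3 ≤ j := le_trans D.p_three (Nat.le_of_dvd
      (Nat.pos_of_ne_zero fun h => hj.1.1.2 (by simpa [h] using hj.1.1.1)) hj.1.2)
    exact (D.big j hj3).resolve_left hj.2
  have hlt : ∑ j ∈ T, ordCount G j < Nat.card G := by
    have h1 : (1 : ℕ) ∈ (Nat.card G).divisors.filter (fun j => ¬ p ∣ j) := by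
      simp [hN, D.prime.ne_one]
    have h2 := Finset.single_le_sum (f := ordCount G) (fun _ _ => Nat.zero_le _) h1
    rw [ordCount_one] at h2
    have h3 : ∑ j ∈ T, ordCount G j ≤
        ∑ j ∈ (Nat.card G).divisors.filter (fun j => p ∣ j), ordCount G j :=
      Finset.sum_le_sum_of_subset (Finset.filter_subset _ _)
    have h4 := Finset.sum_filter_add_sum_filter_not (Nat.card G).divisors (fun j => p ∣ j) (ordCount G)
    rw [hsum] at h4
    omega
  have h0 : ∑ j ∈ T, ordCount G j = 0 :=
    Nat.eq_zero_of_dvd_of_lt (D.card ▸ D.coprime.mul_dvd_of_dvd_of_dvd hBq hB) hlt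
  by_contra hne
  have hkT : k ∈ T := by
    rw [hT, Finset.mem_filter, Finset.mem_filter, Nat.mem_divisors]
    exact ⟨⟨⟨hg ▸ orderOf_dvd_natCard g, hN⟩, hk⟩, hne⟩
  have := Finset.sum_eq_zero_iff.1 h0 k hkT
  exact absurd this (Nat.card_pos_iff.2 ⟨⟨g, hg⟩, inferInstance⟩).ne'

/-- An element of order divisible by `p` has order `p`. -/
theorem orderOf_eq {g : G} (hg : p ∣ orderOf g) : orderOf g = p := by
  classical
  have hp : Fact p.Prime := ⟨D.prime⟩
  obtain ⟨j, hj⟩ := hg
  by_contra hne
  have hj1 : j ≠ 1 := fun h => hne (by rw [hj, h, mul_one])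
  obtain ⟨r, hr, hrj⟩ := Nat.exists_prime_and_dvd hj1
  obtain ⟨i, hi⟩ := hrj
  have hi0 : i ≠ 0 := fun h => (orderOf_pos g).ne' (by rw [hj, hi, h]; simp)
  have hgi : orderOf (g ^ i) = p * r := by
    rw [orderOf_pow' _ hi0, hj, hi, Nat.gcd_eq_right (Dvd.intro_left (p * r) (by ring)),
      ← mul_assoc, Nat.mul_div_cancel _ (Nat.pos_of_ne_zero hi0)]
  have hkd : p * r ∣ Nat.card G := hgi ▸ orderOf_dvd_natCard _
  have hm := D.card_singular (dvd_mul_right p r) ⟨_, hgi⟩
  have hF := CfsgLib.Base.Solutions.dvd_card_pow_eq_one hkd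
  rw [← sum_ordCount (mul_ne_zero D.prime.ne_zero hr.ne_zero)] at hF
  have hF' := (ZMod.natCast_eq_zero_iff _ p).2 ((dvd_mul_right p r).trans hF)
  rcases eq_or_ne r p with rfl | hrp
  · rw [← sq, Nat.sum_divisors_prime_pow D.prime] at hF'
    rw [Finset.sum_range_succ, Finset.sum_range_succ, Finset.sum_range_one, pow_zero, pow_one, sq,
      ordCount_one, hm, D.card_p] at hF'
    push_cast at hF'
    rw [D.zmod_ne] at hF'
    exact absurd (show (1 : ZMod r) = 0 by linear_combination -hF') one_ne_zero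
  · have hcop : p.Coprime r := (Nat.coprime_primes D.prime hr).2 hrp.symm
    have hdiv : (p * r).divisors = {1, r, p, p * r} := by
      rw [Nat.divisors_mul, D.prime.divisors, hr.divisors]
      ext x
      simp [Finset.mem_mul]
      tauto
    have h1r : (1 : ℕ) ≠ r := hr.ne_one.symm
    have h1p : (1 : ℕ) ≠ p := D.prime.ne_one.symm
    have h1pr : (1 : ℕ) ≠ p * r := fun h => D.prime.ne_one (mul_eq_one.1 h.symm).1
    have hrpr : r ≠ p * r := fun h => by
      have := hr.pos; have := D.p_three; nlinarith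
    have hppr : p ≠ p * r := fun h => by
      have := hr.two_le; have := D.p_three; nlinarith
    rw [hdiv, Finset.sum_insert (by simp [h1r, h1p, h1pr]), Finset.sum_insert (by simp [hrp, hrpr]),
      Finset.sum_pair hppr, ordCount_one, hm, D.card_p] at hF'
    push_cast at hF'
    rw [D.zmod_ne] at hF'
    have hr1 : (ordCount G r : ZMod p) = 1 := by linear_combination hF'
    rcases lt_or_ge r 3 with hr2 | hr3
    · have : r = 2 := by have := hr.two_le; omega
      subst this
      rw [D.two, Nat.cast_pow, (ZMod.natCast_eq_zero_iff q p).2 D.p_dvd_q, zero_pow two_ne_zero] at hr1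
      exact zero_ne_one hr1
    · rcases D.big r hr3 with h | h
      · rw [h, D.zmod_ne] at hr1
        have h2 : ((2 : ℕ) : ZMod p) = 0 := by push_cast; linear_combination -hr1
        rw [ZMod.natCast_eq_zero_iff] at h2
        have := Nat.le_of_dvd two_pos h2
        have := D.p_three
        omega
      · rw [(ZMod.natCast_eq_zero_iff _ p).2 (D.p_dvd_q.trans h)] at hr1
        exact zero_ne_one hr1

/-- Elements commuting with an element of order `p` are killed by `p`. -/
theorem pow_p_of_commute {x y : G} (hx : orderOf x = p) (hc : Commute x y) : y ^ p = 1 := by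
  by_cases hy : p ∣ orderOf y
  · rw [← D.orderOf_eq hy, pow_orderOf_eq_one]
  have hcop : (orderOf x).Coprime (orderOf y) := hx ▸ D.prime.coprime_iff_not_dvd.2 hy
  have h := hc.orderOf_mul_eq_mul_orderOf_of_coprime hcop
  have h2 := D.orderOf_eq (g := x * y) (by rw [h, hx]; exact dvd_mul_right _ _)
  rw [h2, hx] at h
  have h3 : orderOf y = 1 := (Nat.mul_eq_left D.prime.ne_zero).1 h.symm
  rw [orderOf_eq_one_iff] at h3
  rw [h3, one_pow]

theorem pow_p_of_mem {P : Sylow p G} {x : G} (hx : x ∈ P) : x ^ p = 1 := by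
  have : Fact p.Prime := ⟨D.prime⟩
  rcases eq_or_ne x 1 with rfl | h1
  · exact one_pow p
  obtain ⟨j, hj⟩ := IsPGroup.iff_orderOf.1 P.isPGroup' ⟨x, hx⟩
  rw [Subgroup.orderOf_mk] at hj
  rcases j with _ | j
  · rw [pow_zero, orderOf_eq_one_iff] at hj
    exact absurd hj h1
  · rw [← D.orderOf_eq (g := x) (hj ▸ dvd_pow_self p (Nat.succ_ne_zero j)), pow_orderOf_eq_one]

theorem orderOf_of_pow {x : G} (hx : x ^ p = 1) (h1 : x ≠ 1) : orderOf x = p :=
  have : Fact p.Prime := ⟨D.prime⟩
  orderOf_eq_prime hx h1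

theorem card_sylow_eq (P : Sylow p G) : Nat.card P = q := by
  have : Fact p.Prime := ⟨D.prime⟩
  rw [P.card_eq_multiplicity, D.card, Nat.factorization_mul (by have := D.q_gt; omega)
    (fun h => D.not_p_dvd (by rw [h]; exact dvd_zero p)), Finsupp.add_apply,
    Nat.factorization_eq_zero_of_not_dvd D.not_p_dvd, D.q_eq, D.prime.factorization_pow]
  simp

theorem isPGroup_centralizer {x : G} (hx : orderOf x = p) :
    IsPGroup p (Subgroup.centralizer ({x} : Set G)) := fun y =>
  ⟨1, Subtype.ext (by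
    simpa using D.pow_p_of_commute hx (Subgroup.mem_centralizer_singleton_iff.1 y.2).symm)⟩

/-- All elements of order `p` are conjugate, and their centralisers have order `q`. -/
theorem card_centralizer_eq :
    ∃ z : G, orderOf z = p ∧ (∀ x : G, orderOf x = p → IsConj z x) ∧
      ∀ x : G, orderOf x = p → Nat.card (Subgroup.centralizer ({x} : Set G)) = q := by
  classical
  have hp : Fact p.Prime := ⟨D.prime⟩
  obtain ⟨P⟩ := (inferInstance : Nonempty (Sylow p G))
  have : Nontrivial P := Finite.one_lt_card_iff_nontrivial.1 (by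
    have := D.card_sylow_eq P; have := D.q_gt; omega)
  have := P.isPGroup'.center_nontrivial
  obtain ⟨z, hz1⟩ := exists_ne (1 : Subgroup.center P)
  have hzne : ((z : P) : G) ≠ 1 := fun h => hz1 (Subtype.ext (Subtype.ext h))
  have hz := D.orderOf_of_pow (D.pow_p_of_mem (z : P).2) hzne
  set w : G := ((z : P) : G) with hw
  have hle : (P : Subgroup G) ≤ Subgroup.centralizer ({w} : Set G) := fun y hy => by
    rw [Subgroup.mem_centralizer_singleton_iff]
    exact congrArg Subtype.val (Subgroup.mem_center_iff.1 z.2 ⟨y, hy⟩)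
  have heq : Nat.card (Subgroup.centralizer ({w} : Set G)) = q := by
    rw [P.is_maximal' (D.isPGroup_centralizer hz) hle]
    exact D.card_sylow_eq P
  have hclass : Nat.card {x : G // IsConj w x} = q ^ 2 - 1 := by
    have h := (Subgroup.centralizer ({w} : Set G)).card_mul_index
    rw [heq, D.card, Nat.mul_right_inj (by have := D.q_gt; omega)] at h
    rw [← h, ← CfsgLib.Base.Solutions.card_conjClass]
    exact Nat.card_congr (Equiv.subtypeEquivRight fun x => by
      rw [ConjClasses.mem_carrier_iff_mk_eq, ConjClasses.mk_eq_mk_iff_isConj, isConj_comm])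
  have hord : ∀ x : G, IsConj w x → orderOf x = p := fun x hx => by
    obtain ⟨g, hg⟩ := isConj_iff.1 hx
    rw [← hg, ← MulAut.conj_apply, MulEquiv.orderOf_eq, hz]
  have hall : ∀ x : G, orderOf x = p → IsConj w x := by
    intro x hx
    let ι : {x : G // IsConj w x} → {x : G // orderOf x = p} := fun x => ⟨x.1, hord x.1 x.2⟩
    have hι : Function.Bijective ι := (Nat.bijective_iff_injective_and_card ι).2
      ⟨fun a b h => Subtype.ext (congrArg Subtype.val h :), by rw [hclass]; exact D.card_p.symm⟩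
    obtain ⟨⟨y, hy⟩, hyx⟩ := hι.2 ⟨x, hx⟩
    obtain rfl : y = x := congrArg Subtype.val hyx
    exact hy
  refine ⟨w, hz, hall, fun x hx => ?_⟩
  have h := (Subgroup.centralizer ({x} : Set G)).card_mul_index
  have h' := (Subgroup.centralizer ({w} : Set G)).card_mul_index
  have hi : (Subgroup.centralizer ({x} : Set G)).index =
      (Subgroup.centralizer ({w} : Set G)).index := by
    rw [← CfsgLib.Base.Solutions.card_conjClass, ← CfsgLib.Base.Solutions.card_conjClass,
      ConjClasses.mk_eq_mk_iff_isConj.2 (hall x hx)]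
  rw [← heq]
  refine Nat.eq_of_mul_eq_mul_right (Nat.pos_of_ne_zero
    (Subgroup.index_ne_zero_of_finite (H := Subgroup.centralizer ({w} : Set G)))) ?_
  rw [h', ← hi, h]

theorem centralizer_comm {x a b : G} (hx : orderOf x = p) (ha : Commute x a) (hb : Commute x b) :
    Commute a b := by
  classical
  obtain ⟨z, hz, hall, -⟩ := D.card_centralizer_eq
  obtain ⟨g, hg⟩ := isConj_iff.1 (((hall x hx).symm).trans (hall x⁻¹ (by rw [orderOf_inv, hx])))
  have hp3 := D.p_three
  obtain ⟨m, hm⟩ := D.prime.odd_of_ne_two D.p_ne_two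
  have hgg : Commute x (g * g) := by
    show x * (g * g) = g * g * x
    have h2 : g * g * x * (g * g)⁻¹ = x := by
      rw [show g * g * x * (g * g)⁻¹ = g * (g * x * g⁻¹) * g⁻¹ by group, hg,
        show g * x⁻¹ * g⁻¹ = (g * x * g⁻¹)⁻¹ by group, hg, inv_inv]
    exact ((mul_inv_eq_iff_eq_mul.1 h2)).symm
  set t := g ^ p with ht
  have ht2 : t * t = 1 := by
    rw [ht, ← (Commute.refl g).mul_pow]
    exact D.pow_p_of_commute hx hgg
  have htx : t * x * t⁻¹ = x⁻¹ := by
    have hsplit : t = (g * g) ^ m * g := by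
      rw [ht, hm, pow_succ, pow_mul, sq]
    have hc : Commute x⁻¹ ((g * g) ^ m) := (hgg.pow_right m).inv_left
    rw [hsplit, show (g * g) ^ m * g * x * ((g * g) ^ m * g)⁻¹ =
      (g * g) ^ m * (g * x * g⁻¹) * ((g * g) ^ m)⁻¹ by group, hg, ← hc.eq, mul_inv_cancel_right]
  let C := Subgroup.centralizer ({x} : Set G)
  have hmem : ∀ y ∈ C, t * y * t⁻¹ ∈ C := fun y hy => by
    have h1 : Commute x y := (Subgroup.mem_centralizer_singleton_iff.1 hy).symm
    have h2 := h1.map (MulAut.conj t)
    simp only [MulAut.conj_apply, htx] at h2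
    have h3 := h2.inv_left
    rw [inv_inv] at h3
    exact Subgroup.mem_centralizer_singleton_iff.2 h3.symm.eq
  let φ : C →* C :=
    { toFun := fun y => ⟨t * y * t⁻¹, hmem y y.2⟩
      map_one' := Subtype.ext (by simp)
      map_mul' := fun y w => Subtype.ext (by simp [mul_assoc]) }
  have hfix : MonoidHom.FixedPointFree φ := fun y hy => by
    by_contra h1
    have h1' : (y : G) ≠ 1 := fun h => h1 (Subtype.ext h)
    have hy' : orderOf (y : G) = p := D.orderOf_of_pow
      (D.pow_p_of_commute hx (Subgroup.mem_centralizer_singleton_iff.1 y.2).symm) h1'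
    have e : t * (y : G) * t⁻¹ = y := congrArg Subtype.val hy
    have htp := D.pow_p_of_commute hy' (mul_inv_eq_iff_eq_mul.1 e).symm
    rw [hm, pow_succ, pow_mul, sq, ht2, one_pow, one_mul] at htp
    rw [htp, one_mul, inv_one, mul_one] at htx
    have : orderOf x ∣ 2 := orderOf_dvd_of_pow_eq_one (by
      rw [sq]; exact mul_eq_one_iff_eq_inv.2 htx)
    have := Nat.le_of_dvd two_pos this
    omega
  have hinv : Function.Involutive φ := fun y => Subtype.ext (by
    show t * (t * (y : G) * t⁻¹) * t⁻¹ = y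
    rw [show t * (t * (y : G) * t⁻¹) * t⁻¹ = (t * t) * y * (t * t)⁻¹ by group, ht2]
    simp)
  exact congrArg Subtype.val (hfix.commute_all_of_involutive hinv
    ⟨a, Subgroup.mem_centralizer_singleton_iff.2 ha.symm.eq⟩
    ⟨b, Subgroup.mem_centralizer_singleton_iff.2 hb.symm.eq⟩ : _)

/-- A Sylow `p`-subgroup is the centraliser of each of its non-trivial elements. -/
theorem centralizer_eq (P : Sylow p G) {x : G} (hxP : x ∈ P) (hx1 : x ≠ 1) :
    (P : Subgroup G) = Subgroup.centralizer ({x} : Set G) := by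
  classical
  have hp : Fact p.Prime := ⟨D.prime⟩
  obtain ⟨z, -, -, hcard⟩ := D.card_centralizer_eq
  have hx := D.orderOf_of_pow (D.pow_p_of_mem hxP) hx1
  have : Nontrivial P := ⟨⟨x, hxP⟩, 1, fun h => hx1 (congrArg Subtype.val h)⟩
  have := P.isPGroup'.center_nontrivial
  obtain ⟨w, hw1⟩ := exists_ne (1 : Subgroup.center P)
  have hw : orderOf ((w : P) : G) = p := D.orderOf_of_pow (D.pow_p_of_mem (w : P).2)
    fun h => hw1 (Subtype.ext (Subtype.ext h))
  have hwc : ∀ y : G, y ∈ P → Commute ((w : P) : G) y := fun y hy =>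
    (congrArg Subtype.val (Subgroup.mem_center_iff.1 w.2 ⟨y, hy⟩)).symm
  refine Subgroup.eq_of_le_of_card_ge (fun y hy => ?_) (le_of_eq ?_)
  · exact Subgroup.mem_centralizer_singleton_iff.2
      (D.centralizer_comm hw (hwc x hxP) (hwc y hy)).symm.eq
  · rw [hcard x hx]; exact (D.card_sylow_eq P).symm

end Data

end CfsgLib.NsePgl
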