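import Cfsg.Agent.Lib.NsePgl.Orders
import Cfsg.Agent.Lib.Perm.ZassG.SharpPGLOdd

/-!
Such a group is sharply triply transitive on its Sylow `p`-subgroups, every element interchanging two of
them is an involution, and hence it is `PGL(2, q)`.
-/

set_option autoImplicit false

open MulAction
open CfsgLib.Perm.ZassG

namespace CfsgLib.NsePgl

/-- If every element interchanging two points is an involution, their stabiliser is commutative. -/
theorem comm_of_swappers {G Ω : Type*} [Group G] [MulAction G Ω] {a b : Ω}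
    (hs : ∃ s : G, s • a = b ∧ s • b = a)
    (hinv : ∀ s : G, s • a = b → s • b = a → s * s = 1) :
    ∀ x ∈ pairStab G a b, ∀ y ∈ pairStab G a b, x * y = y * x := by
  obtain ⟨s, hsa, hsb⟩ := hs
  have hs2 : s * s = 1 := hinv s hsa hsb
  have key : ∀ x ∈ pairStab G a b, s * x * s = x⁻¹ := fun x hx => by
    have h := hinv (s * x) (by rw [mul_smul, mem_stabilizer_iff.1 hx.1, hsa])
      (by rw [mul_smul, mem_stabilizer_iff.1 hx.2, hsb])
    exact eq_inv_of_mul_eq_one_left (by rw [← h]; group)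
  intro x hx y hy
  apply inv_injective
  rw [mul_inv_rev y x, ← key _ (mul_mem hx hy), ← key x hx, ← key y hy,
    show s * x * s * (s * y * s) = s * x * (s * s) * y * s by group, hs2]
  group

namespace Data

variable {G : Type*} [Group G] [Finite G] {p f q : ℕ} (D : Data G p f q)
include D

theorem sylow_eq_of_mem {P Q : Sylow p G} {x : G} (hP : x ∈ P) (hQ : x ∈ Q) (h1 : x ≠ 1) : P = Q :=
  Sylow.ext ((D.centralizer_eq P hP h1).trans (D.centralizer_eq Q hQ h1).symm)

theorem card_sylow : Nat.card (Sylow p G) = q + 1 := by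
  classical
  have hp : Fact p.Prime := ⟨D.prime⟩
  have := Fintype.ofFinite (Sylow p G)
  have e : (Σ P : Sylow p G, {x : G // x ∈ P ∧ x ≠ 1}) ≃ {x : G // orderOf x = p} := by
    refine Equiv.ofBijective (fun s => ⟨s.2.1, D.orderOf_of_pow (D.pow_p_of_mem s.2.2.1) s.2.2.2⟩)
      ⟨?_, ?_⟩
    · rintro ⟨P, x, hxP, hx1⟩ ⟨Q, y, hyQ, hy1⟩ h
      obtain rfl : x = y := congrArg Subtype.val h
      obtain rfl := D.sylow_eq_of_mem hxP hyQ hx1
      rfl
    · intro ⟨x, hx⟩
      obtain ⟨P, hP⟩ := (IsPGroup.of_card (p := p) (G := Subgroup.zpowers x) (n := 1)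
        (by rw [Nat.card_zpowers, hx, pow_one])).exists_le_sylow
      exact ⟨⟨P, x, hP (Subgroup.mem_zpowers x), fun h => by
        rw [h, orderOf_one] at hx; exact D.prime.ne_one hx.symm⟩, rfl⟩
  have hfib : ∀ P : Sylow p G, Nat.card {x : G // x ∈ P ∧ x ≠ 1} = q - 1 := fun P => by
    have e' : {x : P // x ≠ 1} ≃ {x : G // x ∈ P ∧ x ≠ 1} :=
      { toFun := fun x => ⟨x.1.1, x.1.2, fun h => x.2 (Subtype.ext h)⟩
        invFun := fun x => ⟨⟨x.1, x.2.1⟩, fun h => x.2.2 (congrArg Subtype.val h)⟩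
        left_inv := fun x => rfl
        right_inv := fun x => rfl }
    have := Fintype.ofFinite P
    have hP : Nat.card P = q := D.card_sylow_eq P
    rw [← Nat.card_congr e', Nat.card_eq_fintype_card, Fintype.card_subtype_compl,
      Fintype.card_subtype_eq, ← Nat.card_eq_fintype_card]
    exact congrArg (· - 1) hP
  have h := Nat.card_congr e
  rw [Nat.card_sigma, Finset.sum_congr rfl (fun P _ => hfib P), Finset.sum_const, smul_eq_mul,
    Finset.card_univ, ← Nat.card_eq_fintype_card, show Nat.card {x : G // orderOf x = p} = q ^ 2 - 1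
      from D.card_p] at h
  refine Nat.eq_of_mul_eq_mul_right (show 0 < q - 1 by have := D.q_gt; omega) (h.trans ?_)
  rw [show q ^ 2 - 1 = q ^ 2 - 1 ^ 2 by norm_num, Nat.sq_sub_sq]

/-- A Sylow subgroup is regular on the others. -/
theorem sylow_regular {P Q : Sylow p G} (hQ : Q ≠ P) :
    Function.Bijective (fun u : P => (⟨(u : G) • Q, fun h => hQ (smul_left_cancel (u : G) (h.trans
      (Sylow.smul_eq_iff_mem_normalizer.2 (Subgroup.le_normalizer u.2)).symm))⟩ :
        {R : Sylow p G // R ≠ P})) := by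
  classical
  have hp : Fact p.Prime := ⟨D.prime⟩
  have := Fintype.ofFinite (Sylow p G)
  refine (Nat.bijective_iff_injective_and_card _).2 ⟨fun u v h => ?_, ?_⟩
  · have e : (u : G) • Q = (v : G) • Q := congrArg Subtype.val h
    have hm : (v : G)⁻¹ * u ∈ Subgroup.normalizer (Q : Set G) :=
      Sylow.smul_eq_iff_mem_normalizer.1 (by rw [mul_smul, e, inv_smul_smul])
    have hm' : (v : G)⁻¹ * u ∈ (P : Subgroup G) := mul_mem (inv_mem v.2) u.2
    have h1 : (v : G)⁻¹ * u ∈ (Q : Subgroup G) := by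
      have := Subgroup.mem_inf.2 ⟨hm', hm⟩
      rw [P.isPGroup'.inf_normalizer_sylow Q] at this
      exact this.2
    by_contra hne
    exact hQ (D.sylow_eq_of_mem hm' h1 fun h => hne (Subtype.ext (inv_mul_eq_one.1 h).symm)).symm
  · refine (D.card_sylow_eq P).trans ?_
    rw [Nat.card_eq_fintype_card, Fintype.card_subtype_compl, Fintype.card_subtype_eq,
      ← Nat.card_eq_fintype_card, D.card_sylow, Nat.add_sub_cancel]

theorem eq_one_of_three_sylow {g : G} {P Q R : Sylow p G} (hPQ : P ≠ Q) (hQR : Q ≠ R) (hPR : P ≠ R)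
    (hP : g • P = P) (hQ : g • Q = Q) (hR : g • R = R) : g = 1 := by
  have hp : Fact p.Prime := ⟨D.prime⟩
  obtain ⟨u, hu⟩ := (D.sylow_regular hPQ.symm).2 ⟨R, hPR.symm⟩
  have huR : (u : G) • Q = R := congrArg Subtype.val hu
  have hu1 : (u : G) ≠ 1 := fun h => hQR (by rw [← huR, h, one_smul])
  have hgu : g * u * g⁻¹ ∈ (P : Subgroup G) :=
    (Subgroup.mem_normalizer_iff.1 (Sylow.smul_eq_iff_mem_normalizer.1 hP) u).1 u.2
  have h2 : (g * u * g⁻¹) • Q = R := by
    rw [mul_smul, mul_smul, inv_smul_eq_iff.2 hQ.symm, huR, hR]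
  have he : (⟨_, hgu⟩ : P) = u := (D.sylow_regular hPQ.symm).1 (Subtype.ext (h2.trans huR.symm))
  have hgc : g ∈ Subgroup.centralizer ({(u : G)} : Set G) := Subgroup.mem_centralizer_singleton_iff.2
    (mul_inv_eq_iff_eq_mul.1 (congrArg Subtype.val he))
  rw [← D.centralizer_eq P u.2 hu1] at hgc
  exact congrArg Subtype.val ((D.sylow_regular hPQ.symm).1 (a₁ := ⟨g, hgc⟩) (a₂ := 1)
    (Subtype.ext (by simpa using hQ)) : _)

/-- A group with these data is `PGL(2, q)`. -/
theorem exists_pgl :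
    ∃ (K : Type) (_ : Field K) (_ : Fintype K), Nat.card K = q ∧
      Nonempty (G ≃* Matrix.ProjGenLinGroup (Fin 2) K) := by
  classical
  have hp : Fact p.Prime := ⟨D.prime⟩
  have := Fintype.ofFinite (Sylow p G)
  have hn := D.card_sylow
  have hq := D.q_gt
  have htwo : ∀ a b c d : Sylow p G, a ≠ b → c ≠ d → ∃ g : G, g • a = c ∧ g • b = d := by
    intro a b c d hab hcd
    obtain ⟨g, hg⟩ := MulAction.exists_smul_eq G a c
    have hne : g • b ≠ c := fun h => hab (smul_left_cancel g (hg.trans h.symm))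
    obtain ⟨u, hu⟩ := (D.sylow_regular hne).2 ⟨d, hcd.symm⟩
    exact ⟨u * g, by rw [mul_smul, hg, Sylow.smul_eq_iff_mem_normalizer.2 (Subgroup.le_normalizer u.2)],
      by rw [mul_smul]; exact congrArg Subtype.val hu⟩
  have h2 : IsMultiplyPretransitive G (Sylow p G) 2 :=
    is_two_pretransitive_iff.2 fun {a b c d} hab hcd => htwo a b c d hab hcd
  have hpairs : Nat.card {s : Sylow p G × Sylow p G // s.1 ≠ s.2} = (q + 1) * q := by
    let d : {s : Sylow p G × Sylow p G // s.1 = s.2} ≃ Sylow p G :=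
      { toFun := fun s => s.1.1
        invFun := fun x => ⟨(x, x), rfl⟩
        left_inv := fun s => Subtype.ext (Prod.ext rfl s.2)
        right_inv := fun x => rfl }
    have h1 := Nat.card_congr (Equiv.sumCompl fun s : Sylow p G × Sylow p G => s.1 = s.2)
    rw [Nat.card_sum, Nat.card_congr d, Nat.card_prod, hn] at h1
    linarith
  have hH : ∀ a b : Sylow p G, a ≠ b → Nat.card (pairStab G a b) + 2 = q + 1 := by
    intro a b hab
    have e : orbit G (a, b) = {s | s.1 ≠ s.2} := by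
      ext ⟨c, d⟩
      refine ⟨fun ⟨g, hg⟩ h => hab (smul_left_cancel g (?_ : g • a = g • b)), fun h => ?_⟩
      · have e1 : g • a = c := congrArg Prod.fst hg
        have e2 : g • b = d := congrArg Prod.snd hg
        rw [e1, e2]; exact h
      · obtain ⟨g, h1, h2⟩ := htwo a b c d hab h
        exact ⟨g, Prod.ext h1 h2⟩
    have hs : stabilizer G (a, b) = pairStab G a b := by
      ext g; simp [Prod.ext_iff]
    have h := (stabilizer G (a, b)).card_mul_index
    rw [index_stabilizer, e, hs, ← Nat.card_coe_set_eq,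
      show Nat.card {s : Sylow p G × Sylow p G | s.1 ≠ s.2} = (q + 1) * q from hpairs, D.card] at h
    have : Nat.card (pairStab G a b) = q - 1 := by
      refine Nat.eq_of_mul_eq_mul_right (show 0 < (q + 1) * q by positivity) (h.trans ?_)
      rw [show q ^ 2 - 1 = q ^ 2 - 1 ^ 2 by norm_num, Nat.sq_sub_sq]
      ring
    omega
  obtain ⟨a, b, hab⟩ := Fintype.exists_pair_of_one_lt_card (α := Sylow p G)
    (by rw [← Nat.card_eq_fintype_card]; omega)
  have hsharp : ∀ t : Fin 3 ↪ Sylow p G, stabilizer G t = ⊥ := fun t => by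
    rw [Subgroup.eq_bot_iff_forall]
    intro g hg
    have h := fun i => DFunLike.congr_fun (mem_stabilizer_iff.1 hg) i
    exact D.eq_one_of_three_sylow (t.injective.ne (show (0 : Fin 3) ≠ 1 by decide))
      (t.injective.ne (show (1 : Fin 3) ≠ 2 by decide)) (t.injective.ne (show (0 : Fin 3) ≠ 2 by decide))
      (h 0) (h 1) (h 2)
  have hinj : ∀ {a b c : Sylow p G}, a ≠ b → c ≠ a → c ≠ b →
      Function.Injective (fun x : pairStab G a b => (x : G) • c) := fun {a b c} hab hca hcb x y h =>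
    Subtype.ext (inv_mul_eq_one.1 (D.eq_one_of_three_sylow hab hcb.symm hca.symm (g := (y : G)⁻¹ * x)
      (mul_mem (inv_mem y.2) x.2).1 (mul_mem (inv_mem y.2) x.2).2
      (by rw [mul_smul, show (x : G) • c = (y : G) • c from h, inv_smul_smul]))).symm
  obtain ⟨c, hc⟩ := Finset.exists_mem_notMem_of_card_lt_card (s := ({a, b} : Finset (Sylow p G)))
    (t := Finset.univ) (by rw [Finset.card_pair hab, Finset.card_univ, ← Nat.card_eq_fintype_card]; omega)
  simp only [Finset.mem_univ, true_and, Finset.mem_insert, Finset.mem_singleton, not_or] at hc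
  have h3 : IsMultiplyPretransitive G (Sylow p G) 3 :=
    CfsgLib.Classical.three_pretransitive_of_exists a b c fun x y z hxy hxz hyz => by
      obtain ⟨g, hga, hgb⟩ := htwo a b x y hab hxy
      let F : pairStab G a b → {r : Sylow p G // r ≠ a ∧ r ≠ b} := fun x => ⟨(x : G) • c,
        fun h => hc.1 (smul_left_cancel (x : G) (h.trans x.2.1.symm)),
        fun h => hc.2 (smul_left_cancel (x : G) (h.trans x.2.2.symm))⟩
      have hF : Function.Bijective F := by
        refine (Nat.bijective_iff_injective_and_card F).2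
          ⟨fun x y h => hinj hab hc.1 hc.2 (congrArg Subtype.val h), ?_⟩
        rw [Nat.card_eq_fintype_card (α := {r : Sylow p G // r ≠ a ∧ r ≠ b}), Fintype.card_subtype,
          show (Finset.univ.filter fun r : Sylow p G => r ≠ a ∧ r ≠ b) = Finset.univ \ {a, b} by
            ext; simp,
          Finset.card_sdiff_of_subset (Finset.subset_univ _), Finset.card_pair hab, Finset.card_univ,
          ← Nat.card_eq_fintype_card]
        have := hH a b hab
        omega
      obtain ⟨u, hu⟩ := hF.2 ⟨g⁻¹ • z, fun h => hxz (by rw [← hga, ← h, smul_inv_smul]),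
        fun h => hyz (by rw [← hgb, ← h, smul_inv_smul])⟩
      exact ⟨g * u, by rw [mul_smul, mem_stabilizer_iff.1 u.2.1, hga],
        by rw [mul_smul, mem_stabilizer_iff.1 u.2.2, hgb],
        by rw [mul_smul, show (u : G) • c = g⁻¹ • z from congrArg Subtype.val hu, smul_inv_smul]⟩
  have : FaithfulSMul G (Sylow p G) := ⟨fun {g₁ g₂} h =>
    (inv_mul_eq_one.1 (D.eq_one_of_three_sylow hab (Ne.symm hc.2) (Ne.symm hc.1) (g := g₂⁻¹ * g₁)
      (by rw [mul_smul, h, inv_smul_smul]) (by rw [mul_smul, h, inv_smul_smul])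
      (by rw [mul_smul, h, inv_smul_smul]))).symm⟩
  have hZ : Cfsg.IsZassenhausGroup G (Sylow p G) := isZassenhausGroup_of_sharp3 h3 hsharp (by omega)
  have hodd : Odd q := D.q_eq ▸ (D.prime.odd_of_ne_two D.p_ne_two).pow
  have heven : ∀ {a b : Sylow p G}, a ≠ b → 2 ∣ Nat.card (pairStab G a b) := fun {a b} h => by
    obtain ⟨k, hk⟩ := hodd
    have := hH a b h
    exact ⟨k, by omega⟩
  -- the involutions
  have hi : ∀ {a b : Sylow p G}, a ≠ b →
      ∃ t : G, orderOf t = 2 ∧ t ∈ pairStab G a b := fun {a b} h => by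
    have : Fact (Nat.Prime 2) := ⟨Nat.prime_two⟩
    obtain ⟨t, ht⟩ := exists_prime_orderOf_dvd_card' 2 (heven h)
    exact ⟨t, by rw [Subgroup.orderOf_coe]; exact ht, t.2⟩
  choose inv hinv2 hinvm using @hi
  have hsq : ∀ {t : G}, orderOf t = 2 → t ≠ 1 ∧ t * t = 1 := fun {t} ht =>
    ⟨fun h => by simp [h] at ht, by rw [← sq, ← ht, pow_orderOf_eq_one]⟩
  let Φ : {s : Sylow p G × Sylow p G // s.1 ≠ s.2} →
      {r : {t : G // orderOf t = 2} × Sylow p G // (r.1 : G) • r.2 = r.2} :=
    fun s => ⟨(⟨inv s.2, hinv2 s.2⟩, s.1.1), (hinvm s.2).1⟩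
  have hΦ : Function.Bijective Φ := by
    constructor
    · rintro ⟨⟨a, b⟩, hab⟩ ⟨⟨a', b'⟩, hab'⟩ h
      obtain rfl : a = a' := congrArg (fun r => r.1.2) h
      have e : inv hab = inv hab' := congrArg (fun r => (r.1.1 : G)) h
      have hb' : inv hab • b' = b' := e ▸ (hinvm hab').2
      rcases fixed_eq hZ hab (hinvm hab) (hsq (hinv2 hab)).1 hb' with h' | h'
      · exact absurd h'.symm hab'
      · exact Subtype.ext (Prod.ext rfl h'.symm)
    · rintro ⟨⟨⟨t, ht⟩, a⟩, hta⟩
      have : Fact (Nat.Prime 2) := ⟨Nat.prime_two⟩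
      obtain ⟨b, hb, hba⟩ := Equiv.Perm.exists_fixed_point_of_prime' (p := 2) (n := 1)
        (σ := MulAction.toPermHom G (Sylow p G) t)
        (by rw [← Nat.card_eq_fintype_card, hn]; obtain ⟨k, hk⟩ := hodd; exact ⟨k + 1, by omega⟩)
        (by rw [← map_pow, pow_one, sq, (hsq ht).2, map_one]) (a := a) hta
      refine ⟨⟨(a, b), hba.symm⟩, Subtype.ext (Prod.ext (Subtype.ext ?_) rfl)⟩
      exact unique_involution hZ hba.symm (hinvm _) (hsq (hinv2 _)).1 (hsq (hinv2 _)).2
        (mem_pairStab.2 ⟨hta, hb⟩) (hsq ht).1 (hsq ht).2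
  have hmoved : Nat.card {r : {t : G // orderOf t = 2} × Sylow p G // (r.1 : G) • r.2 ≠ r.2} =
      (q + 1) * q * (q - 1) := by
    have h1 := Nat.card_congr (Equiv.sumCompl
      fun r : {t : G // orderOf t = 2} × Sylow p G => (r.1 : G) • r.2 = r.2)
    rw [Nat.card_sum, ← Nat.card_eq_of_bijective Φ hΦ, hpairs, Nat.card_prod, hn,
      show Nat.card {t : G // orderOf t = 2} = q ^ 2 from D.two] at h1
    obtain ⟨k, rfl⟩ : ∃ k, q = k + 1 := ⟨q - 1, by omega⟩
    rw [Nat.add_sub_cancel]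
    nlinarith [h1]
  have hswap : Nat.card {r : G × Sylow p G // r.1 • r.1 • r.2 = r.2 ∧ r.1 • r.2 ≠ r.2} =
      (q + 1) * q * (q - 1) := by
    let e : {r : G × Sylow p G // r.1 • r.1 • r.2 = r.2 ∧ r.1 • r.2 ≠ r.2} ≃
        (Σ s : {s : Sylow p G × Sylow p G // s.1 ≠ s.2}, {g : G // g • s.1.1 = s.1.2 ∧ g • s.1.2 = s.1.1}) :=
      { toFun := fun r => ⟨⟨(r.1.2, r.1.1 • r.1.2), r.2.2.symm⟩, ⟨r.1.1, rfl, r.2.1⟩⟩
        invFun := fun s => ⟨(s.2.1, s.1.1.1), by
          show s.2.1 • s.2.1 • s.1.1.1 = s.1.1.1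
          rw [s.2.2.1, s.2.2.2], by
          show s.2.1 • s.1.1.1 ≠ s.1.1.1
          rw [s.2.2.1]; exact s.1.2.symm⟩
        left_inv := fun r => rfl
        right_inv := by
          rintro ⟨⟨⟨x, y⟩, hxy⟩, g, hg1, hg2⟩
          dsimp only at hg1
          subst hg1
          rfl }
    rw [Nat.card_congr e, Nat.card_sigma, Finset.sum_congr rfl (fun s _ => ?_), Finset.sum_const,
      smul_eq_mul, Finset.card_univ, ← Nat.card_eq_fintype_card, hpairs]
    obtain ⟨g, h1, h2⟩ := exists_swap hZ s.2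
    rw [card_swappers hZ s.2 h1 h2]
    have := hH _ _ s.2
    omega
  let Ψ : {r : {t : G // orderOf t = 2} × Sylow p G // (r.1 : G) • r.2 ≠ r.2} →
      {r : G × Sylow p G // r.1 • r.1 • r.2 = r.2 ∧ r.1 • r.2 ≠ r.2} :=
    fun r => ⟨(r.1.1, r.1.2), by rw [← mul_smul, (hsq r.1.1.2).2, one_smul], r.2⟩
  have hΨ : Function.Bijective Ψ := (Nat.bijective_iff_injective_and_card Ψ).2
    ⟨fun r s h => Subtype.ext (Prod.ext (Subtype.ext (congrArg (fun x => x.1.1) h))
      (congrArg (fun x => x.1.2) h)), hmoved.trans hswap.symm⟩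
  have hswinv : ∀ s : G, s • a = b → s • b = a → s * s = 1 := by
    intro s h1 h2
    obtain ⟨r, hr⟩ := hΨ.2 ⟨(s, a), by show s • s • a = a; rw [h1, h2],
      by show s • a ≠ a; rw [h1]; exact hab.symm⟩
    have e : (r.1.1 : G) = s := congrArg (fun x => x.1.1) hr
    exact e ▸ (hsq r.1.1.2).2
  obtain ⟨K, hK, hK', hcK, hiso⟩ := exists_pgl_of_even_or hZ hab (by rw [hH a b hab, hn]) (heven hab)
    (Or.inr (comm_of_swappers (exists_swap hZ hab) hswinv))
  exact ⟨K, hK, hK', by rw [hn] at hcK; omega, hiso⟩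

end Data

end CfsgLib.NsePgl
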